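import Cfsg.Agent.H33.Tor.Facts
import Cfsg.Agent.H729.PairMathieu
import Cfsg.Agent.H992.Stages.Mathieu
import Cfsg.Agent.CoThreeStd.InvTwo
import Cfsg.Agent.H403.TitsSixteen
import Cfsg.Agent.H547.SelfCent.Tits
import Cfsg.Agent.SporadicA.M11Facts
import Cfsg.Agent.UGT.End.MEleven
import Cfsg.Agent.H603.SporElim
import Cfsg.Agent.Lib.ListFast
import Cfsg.Agent.Prune
set_option linter.all false
prune_inst 0x7f00000000000000000000000000000000000000000000000000000000000000000000000000000000000000000000000000000000000000000000000000000000000000000000000000000000000000003fffffffffffffffffffffffffffbeffbdffffffff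
open scoped Cfsg.Agent.FastGrp

/-!
# S3235, task TOR-M: `Facts p G` for the Mathieu groups and the Tits group
-/

set_option autoImplicit false

namespace Cfsg.Agent.H463.TorM

open Subgroup Cfsg Cfsg.Agent.H33.Tor
open scoped Pointwise
open Cfsg.Agent.SporadicStructure.M24El Cfsg.Agent.SporadicA.GolayPerm Cfsg.Agent.SporadicA.GolayBase
open Cfsg.Agent.H729.M24Deg Cfsg.Agent.H729.M22Deg Cfsg.Agent.H729.MData Cfsg.Agent.H729.PairMathieu
open Cfsg.Agent.H729.Count Cfsg.Agent.H729.Trans

universe u v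

/-! ### tools -/

section Tools

variable {G : Type u} [Group G] [Finite G] {p : ℕ}

theorem not_sq_dvd_of_eq {N : ℕ} (hN : Nat.card G = N) (h : N % p ^ 2 ≠ 0) : ¬ p ^ 2 ∣ Nat.card G := by
  rw [hN]
  intro hd
  exact h (Nat.mod_eq_zero_of_dvd hd)

/-- if one element of order `p` commutes with an involution, so do all -/
theorem facts_even (hp : p.Prime) (h2 : ¬ p ^ 2 ∣ Nat.card G) {x z : G} (hx : orderOf x = p) (hz : orderOf z = 2)
    (hc : z * x = x * z) : Facts p G := by
  intro y hy
  left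
  rw [ev_iff, H729.PairBase.card_cent_of_one hp h2 hx hy, ← ev_iff]
  exact ⟨z, hz, hc⟩

/-- a self-centralising element for one element -/
theorem facts_self (hp : p.Prime) (hp7 : 7 ≤ p) (h2 : ¬ p ^ 2 ∣ Nat.card G) {x : G} (hx : orderOf x = p)
    (hc : Nat.card (centralizer ({x} : Set G)) = p) (hG : p ^ 3 < Nat.card G) : Facts p G :=
  Facts.self hp hp7 (fun y hy => by rw [H729.PairBase.card_cent_of_one hp h2 hx hy, hc]) hG

/-- self-centralising through an injective homomorphism -/
theorem card_of_hom {H : Type v} [Group H] [Finite H] (φ : G →* H) (hφ : Function.Injective φ) {r : ℕ}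
    (hr : r.Prime) (h : ∀ x : H, orderOf x = r → Nat.card (centralizer ({x} : Set H)) = r) (x : G)
    (hx : orderOf x = r) : Nat.card (centralizer ({x} : Set G)) = r := by
  have h1 := h (φ x) (by rw [orderOf_injective φ hφ, hx])
  have h2 : Nat.card (centralizer ({x} : Set G)) ∣ Nat.card (centralizer ({φ x} : Set H)) := by
    rw [← card_map_of_injective hφ]
    refine card_dvd_of_le ?_
    rintro _ ⟨g, hg, rfl⟩
    rw [mem_centralizer_singleton_iff, ← map_mul, ← map_mul, mem_centralizer_singleton_iff.1 hg]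
  rw [h1] at h2
  rcases (Nat.dvd_prime hr).1 h2 with h3 | h3
  · exfalso
    have h4 : orderOf x ∣ Nat.card (centralizer ({x} : Set G)) :=
      Subgroup.orderOf_dvd_natCard _ (mem_centralizer_singleton_iff.2 rfl)
    rw [h3, hx] at h4
    exact hr.one_lt.ne' (Nat.dvd_one.1 h4)
  · exact h3

end Tools

/-- an element of order 23 in the symmetric group of degree 24 -/
theorem cent_twentythree (x : Equiv.Perm GolayPt) (hx : orderOf x = 23) :
    Nat.card (centralizer ({x} : Set (Equiv.Perm GolayPt))) = 23 := by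
  classical
  have hp : Nat.Prime 23 := by norm_num
  have hc : Fintype.card GolayPt = 24 := by decide
  have h0 : x.cycleType = Multiset.replicate (Multiset.card x.cycleType) 23 := by
    rw [Multiset.eq_replicate]
    refine ⟨rfl, fun b hb => ?_⟩
    have h1 : b ∣ 23 := hx ▸ Equiv.Perm.dvd_of_mem_cycleType hb
    have h2 := Equiv.Perm.two_le_of_mem_cycleType hb
    rcases (Nat.dvd_prime hp).1 h1 with h3 | h3
    · omega
    · exact h3
  have hs : x.cycleType.sum ≤ 24 := by
    rw [Equiv.Perm.sum_cycleType, ← hc]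
    exact Finset.card_le_univ _
  have hne : x ≠ 1 := by
    rintro rfl
    rw [orderOf_one] at hx
    omega
  have hpos : 0 < Multiset.card x.cycleType := by
    rw [Equiv.Perm.card_cycleType_pos]
    exact hne
  have hk : Multiset.card x.cycleType = 1 := by
    rw [h0, Multiset.sum_replicate, smul_eq_mul] at hs
    omega
  rw [hk] at h0
  rw [Equiv.Perm.nat_card_centralizer, h0, hc]
  simp

instance finite_m24 : Finite M24 := Nat.finite_of_card_ne_zero (by rw [card_M24]; norm_num)

/-! ### `M24` -/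

theorem facts_m24_five : Facts 5 M24 := by
  have h5 : Nat.Prime 5 := by norm_num
  obtain ⟨z, hz, hc⟩ := (ev_iff (x := el c5)).2 (dvd_trans (by norm_num) d5)
  exact facts_even h5 (not_sq_dvd_of_eq card_M24 (by norm_num)) o5 hz hc

def e7 : ℕ := 977029103333057790453272086950482166
def e2 : ℕ := 984778551226145691544909149262458112

theorem ok7 : ok e7 = true := by decide +kernel
theorem ok2 : ok e2 = true := by decide +kernel
theorem oe7 : orderOf (el e7) = 7 := orderOf_el p7 ok7 (by decide +kernel) 1 (by norm_num) (by decide +kernel)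
theorem oe2 : orderOf (el e2) = 2 := orderOf_el Nat.prime_two ok2 (by decide +kernel) 1 (by norm_num) (by decide +kernel)
theorem ce : el e2 * el e7 = el e7 * el e2 := by
  rw [← el_pcomp ok2 ok7, ← el_pcomp ok7 ok2]
  decide +kernel

theorem facts_m24_seven : Facts 7 M24 :=
  facts_even (by norm_num) (not_sq_dvd_of_eq card_M24 (by norm_num)) oe7 oe2 ce

theorem facts_m24_eleven : Facts 11 M24 :=
  Facts.self (by norm_num) (by norm_num) (fun _ hx => card_cent_eleven hx) (by rw [card_M24]; norm_num)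

theorem facts_m24_23 : Facts 23 M24 :=
  Facts.self (by norm_num) (by norm_num)
    (card_of_hom (Subgroup.subtype _) (Subgroup.subtype_injective _) (by norm_num) cent_twentythree)
    (by rw [card_M24]; norm_num)

theorem prime_cases {N : ℕ} {l : List ℕ} {p : ℕ} (hp : p.Prime) (hp5 : 5 ≤ p) (hd : p ∣ N) (m : ℕ)
    (hl : N ∣ 6 ^ m * l.prod ^ m) (hq : ∀ q ∈ l, q.Prime) : p ∈ l := by
  have h1 := hd.trans hl
  rcases hp.dvd_mul.1 h1 with h | h
  · exfalso
    have h2 : p ∣ 2 * 3 := hp.dvd_of_dvd_pow h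
    rcases hp.dvd_mul.1 h2 with h3 | h3
    · have := Nat.le_of_dvd (by norm_num) h3; omega
    · have := Nat.le_of_dvd (by norm_num) h3; omega
  · have h2 := hp.dvd_of_dvd_pow h
    obtain ⟨q, hql, hpq⟩ := (Prime.dvd_prod_iff hp.prime).1 h2
    rwa [(Nat.prime_dvd_prime_iff_eq hp (hq q hql)).1 hpq]

theorem facts_of_not_dvd {p : ℕ} {G : Type u} [Group G] [Finite G] (h : ¬ p ∣ Nat.card G) : Facts p G := by
  intro x hx
  exact absurd (hx ▸ orderOf_dvd_natCard x) h

theorem facts_m24 {p : ℕ} (hp : p.Prime) (hp5 : 5 ≤ p) {G : Type u} [Group G] [Finite G]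
    (h : Spor.IsoM24 G) : Facts p G := by
  obtain ⟨e⟩ := h
  refine Facts.congr e.symm ?_
  by_cases hd : p ∣ Nat.card M24
  · rw [card_M24] at hd
    have := prime_cases hp hp5 hd 10 (l := [5, 7, 11, 23]) (by norm_num) (by norm_num)
    simp only [List.mem_cons, List.not_mem_nil, or_false] at this
    rcases this with rfl | rfl | rfl | rfl
    · exact facts_m24_five
    · exact facts_m24_seven
    · exact facts_m24_eleven
    · exact facts_m24_23
  · exact facts_of_not_dvd hd

/-! ### `M23` -/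

theorem card_M23 : Nat.card Spor.M23 = 10200960 := Cfsg.Agent.SporadicA.MathieuRecog.card_M23

instance finite_m23 : Finite Spor.M23 := Nat.finite_of_card_ne_zero (by rw [card_M23]; norm_num)

theorem exists_el23 {c : ℕ} (hc : ok c = true) (h1 : papp c 23 = 23) : ∃ x : Spor.M23, inc23 x = el c := by
  have h3 : (el c : Equiv.Perm GolayPt) none = none := by
    have h := el_smul_pt hc (none : GolayPt)
    have e : idx none = 23 := rfl
    rw [e, h1] at h
    exact h
  exact ⟨⟨(el c : Equiv.Perm GolayPt), ⟨(el c).2, h3⟩⟩, rfl⟩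

theorem card_cent_le_of_inj {G : Type u} {H : Type v} [Group G] [Group H] [Finite H] (f : G →* H) (hf : Function.Injective f)
    (x : G) : Nat.card ↥(centralizer ({x} : Set G)) ≤ Nat.card ↥(centralizer ({f x} : Set H)) := by
  refine Nat.card_le_card_of_injective
    (fun y : ↥(centralizer ({x} : Set G)) => (⟨f y, by
      rw [mem_centralizer_singleton_iff, ← map_mul, ← map_mul, mem_centralizer_singleton_iff.1 y.2]⟩ :
      ↥(centralizer ({f x} : Set H)))) ?_
  intro y z h
  exact Subtype.ext (hf (congrArg Subtype.val h))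

theorem cent_m24_five {x : M24} (hx : orderOf x = 5) : Nat.card (centralizer ({x} : Set M24)) ≤ 60 := by
  rw [H729.PairBase.card_cent_of_one (r := 5) (by norm_num) (not_sq_dvd_of_eq card_M24 (by norm_num)) o5 hx]
  have h1 := card_cent_le (MonoidHom.id M24) Function.injective_id pre5 (x := el c5) rfl
    (fun g => st_triv (by decide +kernel) g)
  rw [len5] at h1
  exact h1

theorem facts_m23_five : Facts 5 Spor.M23 := by
  intro x hx
  right; right
  refine Iv.of_le (c := 60) (b := 2688) ?_ (fun z hz => (H992.Stages.card_cent_m23 hz).le) card_M23 1 (by norm_num)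
    (by norm_num)
  exact (card_cent_le_of_inj inc23 inc23_injective x).trans
    (cent_m24_five (by rw [orderOf_injective inc23 inc23_injective, hx]))

theorem facts_m23_seven : Facts 7 Spor.M23 := by
  obtain ⟨x, hx⟩ := exists_el23 ok7 (by decide +kernel)
  obtain ⟨z, hz⟩ := exists_el23 ok2 (by decide +kernel)
  refine facts_even (x := x) (z := z) (by norm_num) (not_sq_dvd_of_eq card_M23 (by norm_num)) ?_ ?_ ?_
  · rw [← orderOf_injective inc23 inc23_injective, hx, oe7]
  · rw [← orderOf_injective inc23 inc23_injective, hz, oe2]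
  · apply inc23_injective
    rw [map_mul, map_mul, hx, hz, ce]

theorem facts_m23_eleven : Facts 11 Spor.M23 :=
  Facts.self (by norm_num) (by norm_num)
    (card_of_hom inc23 inc23_injective (by norm_num) (fun _ hx => card_cent_eleven hx))
    (by rw [card_M23]; norm_num)

theorem facts_m23_23 : Facts 23 Spor.M23 :=
  Facts.self (by norm_num) (by norm_num)
    (card_of_hom (Subgroup.subtype _) (Subgroup.subtype_injective _) (by norm_num) cent_twentythree)
    (by rw [card_M23]; norm_num)

theorem facts_m23 {p : ℕ} (hp : p.Prime) (hp5 : 5 ≤ p) {G : Type u} [Group G] [Finite G]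
    (h : Spor.IsoM23 G) : Facts p G := by
  obtain ⟨e⟩ := h
  refine Facts.congr e.symm ?_
  by_cases hd : p ∣ Nat.card Spor.M23
  · rw [card_M23] at hd
    have := prime_cases hp hp5 hd 10 (l := [5, 7, 11, 23]) (by norm_num) (by norm_num)
    simp only [List.mem_cons, List.not_mem_nil, or_false] at this
    rcases this with rfl | rfl | rfl | rfl
    · exact facts_m23_five
    · exact facts_m23_seven
    · exact facts_m23_eleven
    · exact facts_m23_23
  · exact facts_of_not_dvd hd

/-! ### `M22` -/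

instance finite_m22 : Finite Spor.M22 := Nat.finite_of_card_ne_zero (by rw [card_M22]; norm_num)

/-- the centraliser is bounded by the number of the `z` with `z x = x ^ j z` -/
theorem card_cent_le_norm {G : Type u} [Group G] [Finite G] {x : G} {p n : ℕ} (hp : 2 ≤ p)
    (h : Nat.card {z : G // ∃ j ∈ Finset.Ico 1 p, z * x = x ^ j * z} ≤ n) :
    Nat.card (centralizer ({x} : Set G)) ≤ n := by
  refine le_trans ?_ h
  refine Nat.card_le_card_of_injective
    (fun z : ↥(centralizer ({x} : Set G)) =>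
      (⟨(z : G), 1, Finset.mem_Ico.2 ⟨le_rfl, by omega⟩, by
        rw [pow_one]; exact mem_centralizer_singleton_iff.1 z.2⟩ :
        {z : G // ∃ j ∈ Finset.Ico 1 p, z * x = x ^ j * z})) ?_
  intro y z h
  exact Subtype.ext (Subtype.mk.inj h)

theorem facts_m22_five : Facts 5 Spor.M22 := by
  intro x hx
  right; right
  obtain ⟨y, hy, h1⟩ := exists_five
  have h2 := card_cent_le_norm (by norm_num) h1
  rw [← H729.PairBase.card_cent_of_one (by norm_num) (not_sq_dvd_of_eq card_M22 (by norm_num)) hy hx] at h2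
  exact Iv.of_le (c := 20) (b := 384) h2 (fun z hz => (H992.Stages.card_cent_m22 hz).le) card_M22 1 (by norm_num)
    (by norm_num)

private noncomputable def _root_.Cfsg.Agent.LsF.f0e5645_0 : {f // @Cfsg.Agent.SporadicA.GolayPerm.papp = f} := ⟨_, by first | (delta Cfsg.Agent.SporadicA.GolayPerm.papp; rewrite [Cfsg.Agent.LsF.nmul_pat, Cfsg.Agent.LsF.nmod_pat, Cfsg.Agent.LsF.nshr_pat]; exact rfl) | exact rfl⟩
private noncomputable def _root_.Cfsg.Agent.LsF.f0e5645_1 : {f // @Cfsg.Agent.SporadicA.GolayPerm.pimg = f} := ⟨_, by first | (delta Cfsg.Agent.SporadicA.GolayPerm.pimg; rewrite [Cfsg.Agent.LsF.f0e5645_0.2, Cfsg.Agent.LsF.nmod_pat, Cfsg.Agent.LsF.nxor_pat, Cfsg.Agent.LsF.nshl_pat, Cfsg.Agent.LsF.nshr_pat]; exact rfl) | exact rfl⟩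
private noncomputable def _root_.Cfsg.Agent.LsF.f0e5645_2 : {f // @Cfsg.Agent.SporadicA.GolayPerm.isPerm = f} := ⟨_, by first | (delta Cfsg.Agent.SporadicA.GolayPerm.isPerm; rewrite [Cfsg.Agent.LsF.f0e5645_1.2]; exact rfl) | exact rfl⟩
private noncomputable def _root_.Cfsg.Agent.LsF.f0e5645_3 : {f // @Cfsg.Agent.SporadicA.GolayBase.enc = f} := ⟨_, by first | (delta Cfsg.Agent.SporadicA.GolayBase.enc; rewrite [Cfsg.Agent.LsF.nmul_pat, Cfsg.Agent.LsF.nmod_pat, Cfsg.Agent.LsF.nxor_pat, Cfsg.Agent.LsF.nshr_pat]; exact rfl) | exact rfl⟩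
private noncomputable def _root_.Cfsg.Agent.LsF.f0e5645_4 : {f // @Cfsg.Agent.SporadicA.GolayBase.isCode = f} := ⟨_, by first | (delta Cfsg.Agent.SporadicA.GolayBase.isCode; rewrite [Cfsg.Agent.LsF.f0e5645_3.2]; exact rfl) | exact rfl⟩
private noncomputable def _root_.Cfsg.Agent.LsF.f0e5645_5 : {f // @Cfsg.Agent.SporadicA.GolayPerm.isAut = f} := ⟨_, by first | (delta Cfsg.Agent.SporadicA.GolayPerm.isAut; rewrite [Cfsg.Agent.LsF.f0e5645_4.2, Cfsg.Agent.LsF.f0e5645_1.2, Cfsg.Agent.LsF.and_eq]; exact rfl) | exact rfl⟩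
private noncomputable def _root_.Cfsg.Agent.LsF.f0e5645_6 : {f // @Cfsg.Agent.SporadicStructure.M24El.ok = f} := ⟨_, by first | (delta Cfsg.Agent.SporadicStructure.M24El.ok; rewrite [Cfsg.Agent.LsF.f0e5645_2.2, Cfsg.Agent.LsF.f0e5645_5.2, Cfsg.Agent.LsF.and_eq]; exact rfl) | exact rfl⟩
private noncomputable def _root_.Cfsg.Agent.LsF.f0e5645_7 : {f // @Cfsg.Agent.SporadicA.GolayPerm.pack = f} := ⟨_, by first | (delta Cfsg.Agent.SporadicA.GolayPerm.pack List.brecOn List.brecOn.go Cfsg.Agent.SporadicA.GolayPerm.pack._f; rewrite [Cfsg.Agent.LsF.nadd_pat, Cfsg.Agent.LsF.nmul_pat]; (try delta Cfsg.Agent.SporadicA.GolayPerm.pack.match_1); (try delta List.casesOn); first | dsimp -zeta only | exact rfl) | exact rfl⟩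
private noncomputable def _root_.Cfsg.Agent.LsF.f0e5645_8 : {f // @Cfsg.Agent.H729.Trans.pw = f} := ⟨_, by first | (delta Cfsg.Agent.H729.Trans.pw Nat.brecOn.go Nat.brecOn Cfsg.Agent.H729.Trans.pw._f; rewrite [Cfsg.Agent.LsF.f0e5645_0.2]; (try delta Cfsg.Agent.H729.Trans.pw.match_1); (try delta Nat.casesOn); first | dsimp -zeta only | exact rfl) | exact rfl⟩
private noncomputable def _root_.Cfsg.Agent.LsF.f0e5645_9 : {f // @Cfsg.Agent.H729.Trans.build = f} := ⟨_, by first | (delta Cfsg.Agent.H729.Trans.build; rewrite [Cfsg.Agent.LsF.f0e5645_7.2, Cfsg.Agent.LsF.f0e5645_8.2, Cfsg.Agent.LsF.map_eq, Cfsg.Agent.LsF.getD_eq]; exact rfl) | exact rfl⟩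
private noncomputable def _root_.Cfsg.Agent.LsF.f0e5645_10 : {f // @Cfsg.Agent.H729.Trans.mk = f} := ⟨_, by first | (delta Cfsg.Agent.H729.Trans.mk List.brecOn List.brecOn.go Cfsg.Agent.H729.Trans.mk._f; rewrite [Cfsg.Agent.LsF.f0e5645_8.2, Cfsg.Agent.LsF.nxor_pat, Cfsg.Agent.LsF.nshl_pat, Cfsg.Agent.LsF.getD_eq]; (try delta Cfsg.Agent.H729.Trans.mk.match_1); (try delta List.casesOn); first | dsimp -zeta only | exact rfl) | exact rfl⟩
private noncomputable def _root_.Cfsg.Agent.LsF.f0e5645_11 : {f // @Cfsg.Agent.H729.Trans.good = f} := ⟨_, by first | (delta Cfsg.Agent.H729.Trans.good; rewrite [Cfsg.Agent.LsF.f0e5645_0.2, Cfsg.Agent.LsF.f0e5645_8.2, Cfsg.Agent.LsF.f0e5645_4.2, Cfsg.Agent.LsF.f0e5645_10.2, Cfsg.Agent.LsF.lappend_pat, Cfsg.Agent.LsF.and_eq, Cfsg.Agent.LsF.not_eq, Cfsg.Agent.LsF.cond_eq, Cfsg.Agent.LsF.all_eq, Cfsg.Agent.LsF.range_eq]; exact rfl) | exact rfl⟩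
private noncomputable def _root_.Cfsg.Agent.LsF.f0e5645_12 : {f // @Cfsg.Agent.H729.Trans.srch = f} := ⟨_, by first | (delta Cfsg.Agent.H729.Trans.srch List.brecOn List.brecOn.go Cfsg.Agent.H729.Trans.srch._f; rewrite [Cfsg.Agent.LsF.f0e5645_11.2, Cfsg.Agent.LsF.lappend_pat, Cfsg.Agent.LsF.map_eq, Cfsg.Agent.LsF.flatMap_eq, Cfsg.Agent.LsF.filter_eq]; (try delta Cfsg.Agent.H729.Trans.srch.match_1); (try delta List.casesOn); first | dsimp -zeta only | exact rfl) | exact rfl⟩
private noncomputable def _root_.Cfsg.Agent.LsF.f0e5645_13 : {f // @Cfsg.Agent.H729.Trans.tl = f} := ⟨_, by first | (delta Cfsg.Agent.H729.Trans.tl; rewrite [Cfsg.Agent.LsF.f0e5645_6.2, Cfsg.Agent.LsF.f0e5645_9.2, Cfsg.Agent.LsF.f0e5645_12.2, Cfsg.Agent.LsF.map_eq, Cfsg.Agent.LsF.filter_eq]; exact rfl) | exact rfl⟩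
private noncomputable def _root_.Cfsg.Agent.LsF.f0e5645_14 : {f // @Cfsg.Agent.H729.MData.stM7 = f} := ⟨_, by first | (delta Cfsg.Agent.H729.MData.stM7; rewrite [Cfsg.Agent.LsF.range_eq]; exact rfl) | exact rfl⟩
theorem lenM7 : (tl 7 cM7 cM7 wdM7 stM7).length = 7 := by (refine of_decide_eq_true ?_; (try (rewrite [Cfsg.Agent.LsF.f0e5645_13.2, Cfsg.Agent.LsF.f0e5645_14.2, Cfsg.Agent.LsF.instDecEq_eq, Cfsg.Agent.LsF.length_eq, Cfsg.Agent.LsF.decide_eq])); decide +kernel)

theorem facts_m22_seven : Facts 7 Spor.M22 := by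
  obtain ⟨x, hx⟩ := exists_el (ok_of_pre preM7) (by decide +kernel) (by decide +kernel)
  have hx7 : orderOf x = 7 := by rw [← orderOf_inc, hx, oM7]
  have h1 := card_cent_le inc inc_injective preM7 hx (fun g => st_M (by decide +kernel) g)
  rw [lenM7] at h1
  have h3 : 7 ∣ Nat.card (centralizer ({x} : Set Spor.M22)) := by
    rw [← hx7]
    exact Subgroup.orderOf_dvd_natCard _ (mem_centralizer_singleton_iff.2 rfl)
  have h4 : 0 < Nat.card (centralizer ({x} : Set Spor.M22)) := Nat.card_pos
  have h5 := Nat.le_of_dvd h4 h3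
  exact facts_self (by norm_num) (by norm_num) (not_sq_dvd_of_eq card_M22 (by norm_num)) hx7 (by omega)
    (by rw [card_M22]; norm_num)

theorem facts_m22_eleven : Facts 11 Spor.M22 :=
  Facts.self (by norm_num) (by norm_num)
    (card_of_hom inc inc_injective (by norm_num) (fun _ hx => card_cent_eleven hx))
    (by rw [card_M22]; norm_num)

theorem facts_m22 {p : ℕ} (hp : p.Prime) (hp5 : 5 ≤ p) {G : Type u} [Group G] [Finite G]
    (h : Spor.IsoM22 G) : Facts p G := by
  obtain ⟨e⟩ := h
  refine Facts.congr e.symm ?_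
  by_cases hd : p ∣ Nat.card Spor.M22
  · rw [card_M22] at hd
    have := prime_cases hp hp5 hd 10 (l := [5, 7, 11]) (by norm_num) (by norm_num)
    simp only [List.mem_cons, List.not_mem_nil, or_false] at this
    rcases this with rfl | rfl | rfl
    · exact facts_m22_five
    · exact facts_m22_seven
    · exact facts_m22_eleven
  · exact facts_of_not_dvd hd

/-! ### `M11` -/

theorem facts_m11 {p : ℕ} (hp : p.Prime) (hp5 : 5 ≤ p) {G : Type u} [Group G] [Finite G]
    (h : Spor.IsoM11 G) : Facts p G := by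
  have hM := UGT.End.MEleven.isM11 h
  have hc := hM.2
  by_cases hd : p ∣ Nat.card G
  · rw [hc] at hd
    have := prime_cases hp hp5 hd 10 (l := [5, 11]) (by norm_num) (by norm_num)
    simp only [List.mem_cons, List.not_mem_nil, or_false] at this
    rcases this with rfl | rfl
    · intro x hx
      right; right
      exact Iv.of_le (c := 5) (b := 48) (SporadicA.M11Facts.card_centralizer_five hM hx).le
        (fun z hz => (SporadicA.M11Facts.card_centralizer_two hM hz).le) hc 1 (by norm_num) (by norm_num)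
    · exact Facts.self hp (by norm_num) (fun _ hx => SporadicA.M11Sylow.card_centralizer_eleven hM hx)
        (by rw [hc]; norm_num)
  · exact facts_of_not_dvd hd

/-! ### `M12` -/

theorem card_M12 : Nat.card Spor.M12 = 95040 := CoThreeStd.MTwelve.card_H

instance finite_m12 : Finite Spor.M12 := Nat.finite_of_card_ne_zero (by rw [card_M12]; norm_num)

/-- transport of the order of a centralizer -/
theorem card_cent_conj {G : Type u} [Group G] (c x : G) :
    Nat.card ↥(centralizer ({c⁻¹ * x * c} : Set G)) = Nat.card ↥(centralizer ({x} : Set G)) := by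
  have h : ∀ e : G ≃* G, Nat.card ↥(centralizer ({e x} : Set G)) = Nat.card ↥(centralizer ({x} : Set G)) := by
    intro e
    symm
    refine Nat.card_congr (Equiv.subtypeEquiv e.toEquiv fun y => ?_)
    show y ∈ centralizer ({x} : Set G) ↔ e y ∈ centralizer ({e x} : Set G)
    rw [mem_centralizer_singleton_iff, mem_centralizer_singleton_iff, ← map_mul, ← map_mul, e.injective.eq_iff]
  have h1 := h (MulAut.conj c⁻¹)
  rw [MulAut.conj_apply, inv_inv] at h1
  exact h1

theorem cent_m12_two {x : Spor.M12} (hx : orderOf x = 2) : Nat.card (centralizer ({x} : Set Spor.M12)) ≤ 240 := by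
  have h2 : x * x = 1 := by
    have := pow_orderOf_eq_one x
    rwa [hx, pow_two] at this
  have h1 : x ≠ 1 := by
    rintro rfl
    rw [orderOf_one] at hx
    omega
  rcases CoThreeStd.InvTwo.inv2.cases x h2 h1 with ⟨c, h⟩ | ⟨c, h⟩
  · rw [← h, card_cent_conj]
    exact CoThreeStd.MTwelve.card_cent_y.le
  · rw [← h, card_cent_conj]
    have := CoThreeStd.MTwelve.card_cent_v
    exact le_trans this.le (by norm_num)

/-- the inclusion in `M24` and the dodecad -/
theorem im_dod (g : Spor.M12) {i : ℕ} (hi : i ∈ dod) : im (inc12 g) i ∈ dod := by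
  have h24 : i < 24 := by
    revert i
    decide
  have h1 : pt i ∈ Spor.squareDodecad := by
    rw [mem_dod, idx_pt h24]
    exact hi
  have h2 : (g : Equiv.Perm GolayPt) (pt i) ∈ Spor.squareDodecad := by
    have h := MulAction.mem_stabilizer_iff.1 g.2.2
    rw [← h]
    exact Finset.smul_mem_smul_finset (a := (g : Equiv.Perm GolayPt)) h1
  rw [mem_dod] at h2
  exact h2

def wdX : List (ℕ × ℕ) := [(4, 0), (0, 0), (5, 0), (4, 4), (5, 4), (6, 0), (4, 1), (6, 3), (4, 2), (1, 0), (2, 0), (7, 0),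
  (5, 2), (4, 3), (7, 2), (7, 4), (5, 3), (6, 4), (5, 1), (6, 2), (6, 1), (7, 1), (7, 3), (3, 0)]

def stX : List (ℕ × List ℕ × List (List (ℕ × ℕ))) := [(1, dod, []),
  (9, dod, []),
  (10, List.range 24, []),
  (23, List.range 24, []),
  (0, dod, [[(4, 0), (0, 0), (4, 4), (4, 1), (4, 2), (2, 0), (4, 3), (3, 0)]]),
  (2, dod, [[(5, 0), (5, 4), (1, 0), (2, 0), (5, 2), (5, 3), (5, 1), (3, 0)]]),
  (5, List.range 24, [[(4, 0), (4, 4), (6, 0), (5, 3), (6, 4), (5, 1), (6, 2), (6, 1)]]),
  (11, List.range 24, [[(0, 0), (5, 0), (7, 2), (5, 3), (5, 1), (6, 2), (6, 1), (3, 0)]])]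

theorem preX : pre 5 cx wdX stX = true := by decide +kernel

private noncomputable def _root_.Cfsg.Agent.LsF.f0e5645_15 : {f // @Cfsg.Agent.H463.TorM.stX = f} := ⟨_, by first | (delta Cfsg.Agent.H463.TorM.stX; rewrite [Cfsg.Agent.LsF.range_eq]; exact rfl) | exact rfl⟩
theorem lenX : (tl 5 cx cx wdX stX).length = 10 := by (refine of_decide_eq_true ?_; (try (rewrite [Cfsg.Agent.LsF.f0e5645_13.2, Cfsg.Agent.LsF.f0e5645_15.2, Cfsg.Agent.LsF.instDecEq_eq, Cfsg.Agent.LsF.length_eq, Cfsg.Agent.LsF.decide_eq])); decide +kernel)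

theorem st_X (g : Spor.M12) : ∀ st ∈ stX, im (inc12 g) st.1 ∈ st.2.1 := by
  intro st hst
  have h : ∀ st ∈ stX, st.2.1 = List.range 24 ∨ (st.1 ∈ dod ∧ st.2.1 = dod) := by decide
  rcases h st hst with h1 | ⟨h1, h2⟩
  · rw [h1]
    exact List.mem_range.2 (im_lt _ _)
  · rw [h2]
    exact im_dod g h1

theorem facts_m12_five : Facts 5 Spor.M12 := by
  intro x hx
  right; right
  have h1 := card_cent_le inc12 inc12_injective preX (x := X) rfl st_X
  rw [lenX, ← H729.PairBase.card_cent_of_one (by norm_num) (not_sq_dvd_of_eq card_M12 (by norm_num)) orderX hx] at h1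
  exact Iv.of_le (c := 10) (b := 240) h1 (fun z hz => cent_m12_two hz) card_M12 1 (by norm_num)
    (by norm_num)

theorem facts_m12_eleven : Facts 11 Spor.M12 :=
  Facts.self (by norm_num) (by norm_num)
    (card_of_hom inc12 inc12_injective (by norm_num) (fun _ hx => card_cent_eleven hx))
    (by rw [card_M12]; norm_num)

theorem facts_m12 {p : ℕ} (hp : p.Prime) (hp5 : 5 ≤ p) {G : Type u} [Group G] [Finite G]
    (h : Spor.IsoM12 G) : Facts p G := by
  obtain ⟨e⟩ := h
  refine Facts.congr e.symm ?_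
  by_cases hd : p ∣ Nat.card Spor.M12
  · rw [card_M12] at hd
    have := prime_cases hp hp5 hd 10 (l := [5, 11]) (by norm_num) (by norm_num)
    simp only [List.mem_cons, List.not_mem_nil, or_false] at this
    rcases this with rfl | rfl
    · exact facts_m12_five
    · exact facts_m12_eleven
  · exact facts_of_not_dvd hd

/-! ### the Tits group -/

theorem facts_tits {p : ℕ} (hp : p.Prime) (hp5 : 5 ≤ p) {G : Type u} [Group G] [Finite G] [IsSimpleGroup G]
    (h : Lie.IsoTits G) : Facts p G := by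
  have hc : Nat.card G = 17971200 := NotCT.Orders.tits h
  by_cases hd : p ∣ Nat.card G
  · rw [hc] at hd
    have := prime_cases hp hp5 hd 15 (l := [5, 13]) (by norm_num) (by norm_num)
    simp only [List.mem_cons, List.not_mem_nil, or_false] at this
    rcases this with rfl | rfl
    · refine Facts.even fun x hx => ?_
      rw [(CpAutTits.Row.out h).cent x hx]
      norm_num
    · by_cases hna : H393.Iso.NA 13 G
      · exact Facts.self hp (by norm_num) (fun x hx => H547.SelfCent.tits h inferInstance hna hx) (by rw [hc]; norm_num)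
      · unfold H393.Iso.NA at hna
        push Not at hna
        obtain ⟨x, z, hx, hz, hxz⟩ := hna
        exact facts_even hp (not_sq_dvd_of_eq hc (by norm_num)) hx hz hxz.symm
  · exact facts_of_not_dvd hd

end Cfsg.Agent.H463.TorM
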